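/-
Subobjects and quotients by equivalence relations in a category in which
epimorphisms are strong and stable under pullback.
-/
import Groth.Agent.EquivRelSh.Basic
import Mathlib

set_option autoImplicit false

universe v u

open CategoryTheory CategoryTheory.Limits MonoidalCategory CartesianMonoidalCategory
  SemiCartesianMonoidalCategory

namespace Groth.Agent.ShfQuot

variable {C : Type u} [Category.{v} C]

/-- Epimorphisms are stable under pullback. -/
class EpiPb (C : Type u) [Category.{v} C] : Prop where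
  epi_snd : ∀ {P B A Q : C} {fst : P ⟶ B} {snd : P ⟶ A} {f : B ⟶ Q} {g : A ⟶ Q},
    IsPullback fst snd f g → Epi f → Epi snd

/-- A map to the target of a monomorphism factors through it if it does so after an epimorphism. -/
lemma factors_of_epi [StrongEpiCategory C] {W' W A B : C} (c : W' ⟶ W) [Epi c] (m : A ⟶ B)
    [Mono m] (a : W ⟶ B) (z : W' ⟶ A) (h : z ≫ m = c ≫ a) : ∃ z' : W ⟶ A, z' ≫ m = a := by
  haveI : StrongEpi c := strongEpi_of_epi c
  have sq : CommSq z c m a := ⟨h⟩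
  exact ⟨sq.lift, sq.fac_right⟩

/-- Local lifting along an epimorphism. -/
lemma lift_local [HasPullbacks C] [EpiPb C] {A B W : C} (π : A ⟶ B) [Epi π] (a : W ⟶ B) :
    ∃ (W' : C) (c : W' ⟶ W) (a' : W' ⟶ A), Epi c ∧ a' ≫ π = c ≫ a :=
  ⟨_, pullback.snd π a, pullback.fst π a,
    EpiPb.epi_snd (IsPullback.of_hasPullback π a) inferInstance, pullback.condition⟩

section sub

variable [HasPullbacks C]

/-- Points of the inverse image of a subobject. -/
lemma pullback_points {X B W : C} (π : X ⟶ B) (K : Subobject B) (a : W ⟶ X) :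
    (∃ z, z ≫ ((Subobject.pullback π).obj K).arrow = a) ↔ ∃ z, z ≫ K.arrow = a ≫ π := by
  constructor
  · rintro ⟨z, rfl⟩
    exact ⟨z ≫ Subobject.pullbackπ π K, by
      rw [Category.assoc, Category.assoc, (Subobject.isPullback π K).w]⟩
  · rintro ⟨z, hz⟩
    exact ⟨(Subobject.isPullback π K).lift z a hz, (Subobject.isPullback π K).lift_snd _ _ _⟩

lemma le_of_points {X : C} {K K' : Subobject X}
    (h : ∀ (W : C) (a : W ⟶ X), (∃ z, z ≫ K.arrow = a) → ∃ z, z ≫ K'.arrow = a) : K ≤ K' := by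
  obtain ⟨z, hz⟩ := h _ K.arrow ⟨𝟙 _, Category.id_comp _⟩
  exact Subobject.le_of_comm z hz

lemma eq_of_points {X : C} {K K' : Subobject X}
    (h : ∀ (W : C) (a : W ⟶ X), (∃ z, z ≫ K.arrow = a) ↔ ∃ z, z ≫ K'.arrow = a) : K = K' :=
  le_antisymm (le_of_points fun W a => (h W a).1) (le_of_points fun W a => (h W a).2)

variable [EpiPb C] [StrongEpiCategory C]

/-- Inverse image along an epimorphism reflects inclusions. -/
lemma le_of_pullback_le {X B : C} (π : X ⟶ B) [Epi π] {K K' : Subobject B}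
    (h : (Subobject.pullback π).obj K ≤ (Subobject.pullback π).obj K') : K ≤ K' := by
  refine le_of_points fun W a ⟨z, hz⟩ => ?_
  obtain ⟨W', c, a', hc, ha'⟩ := lift_local π a
  obtain ⟨y, hy⟩ := (pullback_points π K a').2 ⟨c ≫ z, by rw [Category.assoc, hz, ha']⟩
  obtain ⟨w, hw⟩ := (pullback_points π K' a').1 ⟨y ≫ Subobject.ofLE _ _ h, by
    rw [Category.assoc, Subobject.ofLE_arrow, hy]⟩
  exact factors_of_epi c K'.arrow a w (hw.trans ha')

lemma pullback_injective {X B : C} (π : X ⟶ B) [Epi π] :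
    Function.Injective (Subobject.pullback π).obj := fun K K' h =>
  le_antisymm (le_of_pullback_le π h.le) (le_of_pullback_le π h.ge)

/-- A subobject stable under the kernel pair of an epimorphism is an inverse image. -/
lemma exists_of_stable [HasImages C] [HasEqualizers C] {R X B : C} {p₁ p₂ : R ⟶ X} {π : X ⟶ B} [Epi π]
    (hk : IsKernelPair π p₁ p₂) (Y : Subobject X)
    (hY : ∀ (W : C) (r : W ⟶ R),
      (∃ z, z ≫ Y.arrow = r ≫ p₁) → ∃ z, z ≫ Y.arrow = r ≫ p₂) :
    ∃ K : Subobject B, (Subobject.pullback π).obj K = Y := by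
  refine ⟨imageSubobject (Y.arrow ≫ π), eq_of_points fun W a => ?_⟩
  rw [pullback_points]
  constructor
  · rintro ⟨z, hz⟩
    haveI : Epi (factorThruImageSubobject (Y.arrow ≫ π)) := by
      unfold factorThruImageSubobject
      infer_instance
    obtain ⟨W', c, y, hc, hy⟩ := lift_local (factorThruImageSubobject (Y.arrow ≫ π)) z
    have e : (y ≫ Y.arrow) ≫ π = (c ≫ a) ≫ π := by
      rw [Category.assoc, ← imageSubobject_arrow_comp (Y.arrow ≫ π), ← Category.assoc, hy,
        Category.assoc, hz, Category.assoc]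
    obtain ⟨w, hw⟩ := hY _ (hk.lift _ _ e) ⟨y, (hk.lift_fst _ _ e).symm⟩
    exact factors_of_epi c Y.arrow a w (hw.trans (hk.lift_snd _ _ e))
  · rintro ⟨z, rfl⟩
    exact ⟨z ≫ factorThruImageSubobject (Y.arrow ≫ π), by
      rw [Category.assoc, imageSubobject_arrow_comp, Category.assoc]⟩

end sub

section prodY

variable [CartesianMonoidalCategory C] [HasPullbacks C] [EpiPb C] [StrongEpiCategory C]

variable {R X B : C} {p₁ p₂ : R ⟶ X} {π : X ⟶ B}

/-- Points of the quotient as stable subobjects: from a subobject to a point. -/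
lemma existsUnique_point [Epi π] (hk : IsKernelPair π p₁ p₂)
    (hee : ∀ {Z Y : C} (f : Z ⟶ Y), Epi f → EffectiveEpi f) {Z Y : C} (ι : Z ⟶ X ⊗ Y) [Mono ι]
    (hst : ∀ (W : C) (r : W ⟶ R) (y : W ⟶ Y),
      (∃ z : W ⟶ Z, z ≫ ι = lift (r ≫ p₁) y) → ∃ z : W ⟶ Z, z ≫ ι = lift (r ≫ p₂) y)
    (hepi : Epi (ι ≫ snd X Y))
    (hrel : ∀ (W : C) (z₁ z₂ : W ⟶ Z), z₁ ≫ ι ≫ snd X Y = z₂ ≫ ι ≫ snd X Y →
      ∃ r : W ⟶ R, r ≫ p₁ = z₁ ≫ ι ≫ fst X Y ∧ r ≫ p₂ = z₂ ≫ ι ≫ fst X Y) :
    ∃! f : Y ⟶ B, IsPullback (ι ≫ fst X Y) (ι ≫ snd X Y) π f := by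
  haveI := hee _ hepi
  have hcoeq : ∀ {W : C} (z₁ z₂ : W ⟶ Z), z₁ ≫ ι ≫ snd X Y = z₂ ≫ ι ≫ snd X Y →
      z₁ ≫ (ι ≫ fst X Y) ≫ π = z₂ ≫ (ι ≫ fst X Y) ≫ π := by
    intro W z₁ z₂ h
    obtain ⟨r, h1, h2⟩ := hrel W z₁ z₂ h
    have := r ≫= hk.w
    rw [reassoc_of% h1, reassoc_of% h2] at this
    simpa using this
  let f : Y ⟶ B := EffectiveEpi.desc (ι ≫ snd X Y) ((ι ≫ fst X Y) ≫ π) hcoeq
  have hw : (ι ≫ fst X Y) ≫ π = (ι ≫ snd X Y) ≫ f := (EffectiveEpi.fac _ _ _).symm
  have key : ∀ {W : C} (x : W ⟶ X) (y : W ⟶ Y), x ≫ π = y ≫ f →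
      ∃ z : W ⟶ Z, z ≫ ι = lift x y := by
    intro W x y h
    obtain ⟨W', c, z, hc, hz⟩ := lift_local (ι ≫ snd X Y) y
    have e : (z ≫ ι ≫ fst X Y) ≫ π = (c ≫ x) ≫ π := by
      rw [Category.assoc, hw, ← Category.assoc z, hz, Category.assoc, Category.assoc, h]
    obtain ⟨w, hw'⟩ := hst W' (hk.lift _ _ e) (c ≫ y) ⟨z, by
      apply CartesianMonoidalCategory.hom_ext
      · rw [lift_fst, hk.lift_fst, Category.assoc]
      · rw [lift_snd, Category.assoc, hz]⟩
    refine factors_of_epi c ι (lift x y) w ?_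
    rw [hw', hk.lift_snd, comp_lift]
  refine ⟨f, IsPullback.of_isLimit' ⟨hw⟩ (PullbackCone.IsLimit.mk hw
    (fun s => (key s.fst s.snd s.condition).choose)
    (fun s => by rw [← Category.assoc, (key s.fst s.snd s.condition).choose_spec, lift_fst])
    (fun s => by rw [← Category.assoc, (key s.fst s.snd s.condition).choose_spec, lift_snd])
    (fun s m h1 h2 => by
      rw [← cancel_mono ι, (key s.fst s.snd s.condition).choose_spec]
      apply CartesianMonoidalCategory.hom_ext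
      · rw [lift_fst, Category.assoc, h1]
      · rw [lift_snd, Category.assoc, h2])), fun g hg => ?_⟩
  rw [← cancel_epi (ι ≫ snd X Y), ← hg.w, hw]

/-- Points of the quotient as stable subobjects: from a point to a subobject. -/
lemma exists_subobject [Epi π] (hk : IsKernelPair π p₁ p₂) {Y : C} (f : Y ⟶ B) :
    ∃ (Z : C) (ι : Z ⟶ X ⊗ Y), Mono ι ∧
      (∀ (W : C) (r : W ⟶ R) (y : W ⟶ Y),
        (∃ z : W ⟶ Z, z ≫ ι = lift (r ≫ p₁) y) ↔ (∃ z : W ⟶ Z, z ≫ ι = lift (r ≫ p₂) y)) ∧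
      Epi (ι ≫ snd X Y) ∧
      (∀ (W : C) (z₁ z₂ : W ⟶ Z), z₁ ≫ ι ≫ snd X Y = z₂ ≫ ι ≫ snd X Y →
        ∃ r : W ⟶ R, r ≫ p₁ = z₁ ≫ ι ≫ fst X Y ∧ r ≫ p₂ = z₂ ≫ ι ≫ fst X Y) ∧
      IsPullback (ι ≫ fst X Y) (ι ≫ snd X Y) π f := by
  have hsq := IsPullback.of_hasPullback π f
  let ι : pullback π f ⟶ X ⊗ Y := lift (pullback.fst π f) (pullback.snd π f)
  have h1 : ι ≫ fst X Y = pullback.fst π f := lift_fst _ _
  have h2 : ι ≫ snd X Y = pullback.snd π f := lift_snd _ _
  have pts : ∀ {W : C} (x : W ⟶ X) (y : W ⟶ Y),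
      (∃ z : W ⟶ pullback π f, z ≫ ι = lift x y) ↔ x ≫ π = y ≫ f := by
    intro W x y
    constructor
    · rintro ⟨z, hz⟩
      have hx : z ≫ pullback.fst π f = x := by rw [← h1, ← Category.assoc, hz, lift_fst]
      have hy : z ≫ pullback.snd π f = y := by rw [← h2, ← Category.assoc, hz, lift_snd]
      rw [← hx, ← hy, Category.assoc, Category.assoc, pullback.condition]
    · intro h
      refine ⟨pullback.lift x y h, ?_⟩
      apply CartesianMonoidalCategory.hom_ext
      · rw [lift_fst, Category.assoc, h1, pullback.lift_fst]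
      · rw [lift_snd, Category.assoc, h2, pullback.lift_snd]
  refine ⟨_, ι, ⟨fun g h e => ?_⟩, fun W r y => ?_, ?_, fun W z₁ z₂ e => ?_, ?_⟩
  · apply pullback.hom_ext
    · rw [← h1, ← Category.assoc, ← Category.assoc, e]
    · rw [← h2, ← Category.assoc, ← Category.assoc, e]
  · rw [pts, pts, Category.assoc, Category.assoc, hk.w]
  · rw [h2]
    exact EpiPb.epi_snd hsq inferInstance
  · rw [h2] at e
    rw [h1]
    have e' : (z₁ ≫ pullback.fst π f) ≫ π = (z₂ ≫ pullback.fst π f) ≫ π := by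
      rw [Category.assoc, Category.assoc, pullback.condition, reassoc_of% e]
    exact ⟨hk.lift _ _ e', hk.lift_fst _ _ e', hk.lift_snd _ _ e'⟩
  · rw [h1, h2]
    exact hsq

end prodY

section sheaf

universe w v₁ u₁

variable {D : Type u₁} [Category.{v₁} D] {J : GrothendieckTopology D} [HasSheafify J (Type w)]

instance : EpiPb (Sheaf J (Type w)) :=
  ⟨fun h hf => @EquivRelSh.epi_of_isPullback_sheaf _ _ J _ _ _ _ _ _ _ _ _ h hf⟩

instance (priority := 10) : HasImages (Sheaf J (Type w)) := by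
  haveI : HasStrongEpiMonoFactorisations (Sheaf J (Type w)) :=
    HasStrongEpiMonoFactorisations.mk fun f =>
      { I := Sheaf.image f
        m := Sheaf.imageι f
        e := Sheaf.toImage f
        e_strong_epi := strongEpi_of_epi _
        fac := Sheaf.toImage_ι f }
  infer_instance

lemma effectiveEpi_sheaf {A B : Sheaf J (Type w)} (f : A ⟶ B) (hf : Epi f) : EffectiveEpi f := by
  rw [← isRegularEpi_iff_effectiveEpi]
  exact IsRegularEpiCategory.regularEpiOfEpi f

lemma epi_π {R X : Sheaf J (Type w)} {p₁ p₂ : R ⟶ X}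
    (e : UniversallyEffectiveEquivalenceRelation p₁ p₂) : Epi e.π := by
  haveI : EffectiveEpi e.π :=
    e.universally_effectiveEpi_π _ _ _ (IsPullback.id_horiz (f := e.π)).flip
  infer_instance

end sheaf

end Groth.Agent.ShfQuot
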