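/-
Quotients of groups by subgroups in categories of sheaves of sets.
-/
import Groth.Agent.ShfQuot.Basic
import Mathlib

set_option autoImplicit false
set_option backward.isDefEq.respectTransparency false
set_option backward.isDefEq.respectTransparency.types false

universe v u

open CategoryTheory CategoryTheory.Limits MonoidalCategory CartesianMonoidalCategory
  SemiCartesianMonoidalCategory

open scoped MonObj

namespace Groth.Agent.ShfQuot

variable {C : Type u} [Category.{v} C] [CartesianMonoidalCategory C]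

section relation

variable {H G : C} [GrpObj H] [GrpObj G] (u : H ⟶ G) [Mono u] [IsMonHom u]

omit [Mono u] [GrpObj H] [IsMonHom u] in
lemma act_apply {W : C} (a : W ⟶ G ⊗ H) :
    a ≫ (G ◁ u) ≫ μ = (a ≫ fst G H) * ((a ≫ snd G H) ≫ u) := by
  rw [Hom.mul_def, ← Category.assoc]
  congr 1
  apply CartesianMonoidalCategory.hom_ext <;> simp

omit [Mono u] [GrpObj H] [IsMonHom u] in
lemma lift_act {W : C} (g : W ⟶ G) (h : W ⟶ H) :
    lift g h ≫ (G ◁ u) ≫ μ = g * (h ≫ u) := by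
  rw [act_apply, lift_fst, lift_snd]

variable [HasPullbacks C]

/-- Right translation by a subgroup is an equivalence relation. -/
lemma isEquivalenceRelation_coset : IsEquivalenceRelation (fst G H) ((G ◁ u) ≫ μ) := by
  have jm : JointlyMono₂ (fst G H) ((G ◁ u) ≫ μ) := ⟨fun W a b h1 h2 => by
    apply CartesianMonoidalCategory.hom_ext
    · exact h1
    · rw [act_apply, act_apply, h1] at h2
      exact (cancel_mono u).1 (mul_left_cancel h2)⟩
  let c := PullbackCone.mk (pullback.fst ((G ◁ u) ≫ μ) (fst G H))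
    (pullback.snd ((G ◁ u) ≫ μ) (fst G H)) pullback.condition
  refine ⟨⟨{ toJointlyMono₂ := jm
             r := lift (𝟙 G) (1 : G ⟶ H)
             reflexivity₁ := lift_fst _ _
             reflexivity₂ := by rw [lift_act, MonObj.one_comp, mul_one]
             s := lift ((G ◁ u) ≫ μ) (snd G H)⁻¹
             symmetry₁ := lift_fst _ _
             symmetry₂ := ?_
             c := c
             isLimit := pullbackIsPullback _ _
             t := lift (c.fst ≫ fst G H) ((c.fst ≫ snd G H) * (c.snd ≫ snd G H))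
             transitivity₁ := lift_fst _ _
             transitivity₂ := ?_ }⟩⟩
  · rw [lift_act, GrpObj.inv_comp]
    conv_lhs => arg 1; rw [← Category.id_comp ((G ◁ u) ≫ μ), act_apply, Category.id_comp,
      Category.id_comp]
    rw [mul_inv_cancel_right]
  · rw [lift_act, MonObj.mul_comp, act_apply u c.snd, ← mul_assoc, ← c.condition, act_apply]

lemma isKernelPair_of_effective [HasCoequalizers C]
    (e : EffectiveEquivalenceRelation (fst G H) ((G ◁ u) ≫ μ)) :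
    IsKernelPair (coequalizer.π (fst G H) ((G ◁ u) ≫ μ)) (fst G H) ((G ◁ u) ≫ μ) := by
  let d := coequalizer.desc e.π e.isPushout.w
  have hd : coequalizer.π (fst G H) ((G ◁ u) ≫ μ) ≫ d = e.π := coequalizer.π_desc _ _
  have hh : ∀ {W : C} (a b : W ⟶ G), a ≫ coequalizer.π (fst G H) ((G ◁ u) ≫ μ) =
      b ≫ coequalizer.π (fst G H) ((G ◁ u) ≫ μ) → a ≫ e.π = b ≫ e.π := by
    intro W a b h
    rw [← hd, reassoc_of% h]
  exact IsPullback.of_isLimit' ⟨coequalizer.condition _ _⟩ (PullbackCone.IsLimit.mk _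
    (fun s => e.isKernelPair.lift s.fst s.snd (hh _ _ s.condition))
    (fun s => e.isKernelPair.lift_fst _ _ _) (fun s => e.isKernelPair.lift_snd _ _ _)
    (fun s m h1 h2 => e.isKernelPair.hom_ext
      (h1.trans (e.isKernelPair.lift_fst _ _ _).symm)
      (h2.trans (e.isKernelPair.lift_snd _ _ _).symm)))

end relation

section subgroup

variable {G : C} [GrpObj G]

/-- A subobject closed under the group operations is a subgroup. -/
lemma exists_grpObj {K : C} (m : K ⟶ G) [Mono m]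
    (h1 : ∃ z : 𝟙_ C ⟶ K, z ≫ m = 1)
    (h2 : ∀ (W : C) (a b : W ⟶ G), (∃ z, z ≫ m = a) → (∃ z, z ≫ m = b) → ∃ z, z ≫ m = a * b)
    (h3 : ∀ (W : C) (a : W ⟶ G), (∃ z, z ≫ m = a) → ∃ z, z ≫ m = a⁻¹) :
    ∃ str : GrpObj K, @IsMonHom C _ _ K G str.toMonObj _ m := by
  obtain ⟨e, he⟩ := h1
  obtain ⟨p, hp⟩ := h2 _ (fst K K ≫ m) (snd K K ≫ m) ⟨_, rfl⟩ ⟨_, rfl⟩
  obtain ⟨i, hi⟩ := h3 _ m ⟨𝟙 K, Category.id_comp _⟩
  have hp' : ∀ {W : C} (x y : W ⟶ K), lift x y ≫ p ≫ m = (x ≫ m) * (y ≫ m) := by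
    intro W x y
    rw [hp, MonObj.comp_mul, lift_fst_assoc, lift_snd_assoc]
  have he' : ∀ (W : C) (t : W ⟶ 𝟙_ C), t ≫ e ≫ m = 1 := by
    intro W t
    rw [he, MonObj.comp_one]
  have hw : ∀ {W : C} (x y : W ⟶ K ⊗ K), x ≫ fst K K = y ≫ fst K K → x ≫ snd K K = y ≫ snd K K →
      x = y := fun x y => CartesianMonoidalCategory.hom_ext x y
  let str : GrpObj K :=
    { one := e
      mul := p
      one_mul := by
        rw [← cancel_mono m]
        have : e ▷ K = lift (fst _ K ≫ e) (snd _ K) := hw _ _ (by simp) (by simp)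
        rw [this, Category.assoc, hp', Category.assoc, he', one_mul, leftUnitor_hom]
      mul_one := by
        rw [← cancel_mono m]
        have : K ◁ e = lift (fst K _) (snd K _ ≫ e) := hw _ _ (by simp) (by simp)
        rw [this, Category.assoc, hp', Category.assoc, he', mul_one, rightUnitor_hom]
      mul_assoc := by
        rw [← cancel_mono m]
        have e1 : p ▷ K = lift (fst _ K ≫ p) (snd _ K) := hw _ _ (by simp) (by simp)
        have e2 : K ◁ p = lift (fst K _) (snd K _ ≫ p) := hw _ _ (by simp) (by simp)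
        rw [Category.assoc, Category.assoc, Category.assoc, e1, e2, hp', hp', Category.assoc,
          Category.assoc, hp]
        simp only [MonObj.comp_mul, mul_assoc, associator_hom_fst_assoc,
          associator_hom_snd_fst_assoc, associator_hom_snd_snd_assoc, Category.assoc]
      inv := i
      left_inv := by
        rw [← cancel_mono m, Category.assoc, hp', Category.assoc, he', hi, Category.id_comp,
          inv_mul_cancel]
      right_inv := by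
        rw [← cancel_mono m, Category.assoc, hp', Category.assoc, he', hi, Category.id_comp,
          mul_inv_cancel] }
  refine ⟨str, ?_⟩
  letI := str
  exact
    { one_hom := by
        show e ≫ m = η
        rw [he, Hom.one_def]
        simp
      mul_hom := by
        show p ≫ m = (m ⊗ₘ m) ≫ μ
        rw [hp, Hom.mul_def]
        congr 1
        exact CartesianMonoidalCategory.hom_ext _ _ (by simp) (by simp) }

/-- A subgroup is closed under the group operations. -/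
lemma closed_of_grpObj {K : C} (m : K ⟶ G) (str : GrpObj K)
    (hm : @IsMonHom C _ _ K G str.toMonObj _ m) :
    (∀ W : C, ∃ z : W ⟶ K, z ≫ m = 1) ∧
    (∀ (W : C) (a b : W ⟶ G), (∃ z, z ≫ m = a) → (∃ z, z ≫ m = b) → ∃ z, z ≫ m = a * b) ∧
    (∀ (W : C) (a : W ⟶ G), (∃ z, z ≫ m = a) → ∃ z, z ≫ m = a⁻¹) := by
  letI := str
  haveI := hm
  refine ⟨fun W => ⟨1, MonObj.one_comp m⟩, ?_, ?_⟩
  · rintro W _ _ ⟨x, rfl⟩ ⟨y, rfl⟩
    exact ⟨x * y, MonObj.mul_comp _ _ _⟩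
  · rintro W _ ⟨x, rfl⟩
    exact ⟨x⁻¹, GrpObj.inv_comp _ _⟩

end subgroup

section quotient

variable [HasPullbacks C] [EpiPb C] [StrongEpiCategory C]

variable {H G Q : C} [GrpObj H] [GrpObj G] [GrpObj Q] (u : H ⟶ G) [IsMonHom u]
  {π : G ⟶ Q} [Epi π] [IsMonHom π]

variable (hk : IsKernelPair π (fst G H) ((G ◁ u) ≫ μ))

include hk in
lemma comp_π_eq_one {W : C} (h : W ⟶ H) : (h ≫ u) ≫ π = 1 := by
  have h' := lift (1 : W ⟶ G) h ≫= hk.w
  rw [lift_fst_assoc, ← Category.assoc, lift_act, one_mul, MonObj.one_comp] at h'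
  exact h'.symm

/-- Stability under conjugation. -/
def IsNormalSub {K A : C} [GrpObj A] (m : K ⟶ A) : Prop :=
  ∀ (Y : C) (g : Y ⟶ A) (k : Y ⟶ K), ∃ k' : Y ⟶ K, g * (k ≫ m) * g⁻¹ = k' ≫ m

include hk in
/-- The subgroup correspondence. -/
lemma correspondence [HasImages C] [HasEqualizers C] [Mono u] :
    Set.BijOn (Subobject.pullback π).obj
      {K' : Subobject Q | ∃ str : GrpObj (K' : C), @IsMonHom C _ _ _ _ str.toMonObj _ K'.arrow}
      {K : Subobject G | Subobject.mk u ≤ K ∧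
        ∃ str : GrpObj (K : C), @IsMonHom C _ _ _ _ str.toMonObj _ K.arrow} := by
  refine ⟨fun K' hK' => ?_, (pullback_injective π).injOn, fun K hK => ?_⟩
  · obtain ⟨str, hstr⟩ := hK'
    obtain ⟨h1, h2, h3⟩ := closed_of_grpObj _ str hstr
    refine ⟨le_of_points fun W a ha => ?_, exists_grpObj _ ?_ ?_ ?_⟩
    · obtain ⟨z, rfl⟩ := ha
      rw [pullback_points, ← Subobject.underlyingIso_hom_comp_eq_mk u, ← Category.assoc z,
        comp_π_eq_one u hk]
      exact h1 W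
    · rw [pullback_points, MonObj.one_comp]
      exact h1 _
    · intro W a b ha hb
      rw [pullback_points] at ha hb ⊢
      rw [MonObj.mul_comp]
      exact h2 W _ _ ha hb
    · intro W a ha
      rw [pullback_points] at ha ⊢
      rw [GrpObj.inv_comp]
      exact h3 W _ ha
  · obtain ⟨hle, str, hstr⟩ := hK
    obtain ⟨h1, h2, h3⟩ := closed_of_grpObj _ str hstr
    obtain ⟨K', rfl⟩ : ∃ K', (Subobject.pullback π).obj K' = K := by
      refine exists_of_stable hk K fun W r hr => ?_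
      rw [act_apply]
      refine h2 W _ _ hr ⟨(r ≫ snd G H) ≫ (Subobject.underlyingIso u).inv ≫
        Subobject.ofLE _ _ hle, ?_⟩
      simp only [Category.assoc, Subobject.ofLE_arrow, Subobject.underlyingIso_arrow]
    refine ⟨K', exists_grpObj _ ?_ ?_ ?_, rfl⟩
    · obtain ⟨z, hz⟩ := (pullback_points π K' _).1 (h1 (𝟙_ C))
      exact ⟨z, hz.trans (MonObj.one_comp π)⟩
    · intro W a b ha hb
      obtain ⟨z, rfl⟩ := ha
      obtain ⟨z', rfl⟩ := hb
      obtain ⟨W₁, c₁, a₁, hc₁, ha₁⟩ := lift_local π (z ≫ K'.arrow)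
      obtain ⟨W₂, c₂, b₂, hc₂, hb₂⟩ := lift_local π (c₁ ≫ z' ≫ K'.arrow)
      have ha₂ : (c₂ ≫ a₁) ≫ π = (c₂ ≫ c₁) ≫ z ≫ K'.arrow := by
        rw [Category.assoc, ha₁, Category.assoc]
      have hb₂' : b₂ ≫ π = (c₂ ≫ c₁) ≫ z' ≫ K'.arrow := by rw [hb₂, Category.assoc]
      obtain ⟨w, hw⟩ := (pullback_points π K' _).1 (h2 W₂ (c₂ ≫ a₁) b₂
        ((pullback_points π K' _).2 ⟨(c₂ ≫ c₁) ≫ z, by rw [ha₂, Category.assoc]⟩)
        ((pullback_points π K' _).2 ⟨(c₂ ≫ c₁) ≫ z', by rw [hb₂', Category.assoc]⟩))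
      haveI : Epi (c₂ ≫ c₁) := epi_comp _ _
      refine factors_of_epi (c₂ ≫ c₁) K'.arrow _ w ?_
      rw [hw, MonObj.mul_comp, ha₂, hb₂', MonObj.comp_mul]
    · intro W a ha
      obtain ⟨z, rfl⟩ := ha
      obtain ⟨W₁, c₁, a₁, hc₁, ha₁⟩ := lift_local π (z ≫ K'.arrow)
      obtain ⟨w, hw⟩ := (pullback_points π K' _).1 (h3 W₁ a₁
        ((pullback_points π K' _).2 ⟨c₁ ≫ z, by rw [ha₁, Category.assoc]⟩))
      refine factors_of_epi c₁ K'.arrow _ w ?_
      rw [hw, GrpObj.inv_comp, ha₁, GrpObj.comp_inv]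

/-- Normal subgroups correspond to normal subgroups. -/
lemma normal_iff (K' : Subobject Q) :
    IsNormalSub K'.arrow ↔ IsNormalSub ((Subobject.pullback π).obj K').arrow := by
  constructor
  · intro h Y g k
    obtain ⟨z, hz⟩ := (pullback_points π K' _).1 ⟨k, rfl⟩
    obtain ⟨z', hz'⟩ := h Y (g ≫ π) z
    obtain ⟨w, hw⟩ := (pullback_points π K' (g * (k ≫ _) * g⁻¹)).2 ⟨z', by
      rw [MonObj.mul_comp, MonObj.mul_comp, GrpObj.inv_comp, ← hz, hz']⟩
    exact ⟨w, hw.symm⟩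
  · intro h Y g k
    obtain ⟨W₁, c₁, g₁, hc₁, hg₁⟩ := lift_local π g
    obtain ⟨W₂, c₂, k₂, hc₂, hk₂⟩ := lift_local π (c₁ ≫ k ≫ K'.arrow)
    obtain ⟨x, hx⟩ := (pullback_points π K' k₂).2 ⟨c₂ ≫ c₁ ≫ k, by
      rw [hk₂, Category.assoc, Category.assoc]⟩
    obtain ⟨x', hx'⟩ := h W₂ (c₂ ≫ g₁) x
    obtain ⟨w, hw⟩ := (pullback_points π K' _).1 ⟨x', hx'.symm⟩
    haveI : Epi (c₂ ≫ c₁) := epi_comp _ _
    obtain ⟨k', hk'⟩ := factors_of_epi (c₂ ≫ c₁) K'.arrow (g * (k ≫ K'.arrow) * g⁻¹) w (by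
      rw [hw, MonObj.mul_comp, MonObj.mul_comp, GrpObj.inv_comp, hx, Category.assoc c₂ g₁, hg₁,
        hk₂]
      simp only [MonObj.comp_mul, GrpObj.comp_inv, Category.assoc])
    exact ⟨k', hk'.symm⟩

end quotient

section thirdIso

variable [HasPullbacks C] [EpiPb C] [StrongEpiCategory C] [HasCoequalizers C]

variable {H K G : C} [GrpObj H] [GrpObj K] [GrpObj G] (h : H ⟶ K) (k : K ⟶ G)
  [IsMonHom k]

lemma epi_tensor {A B A' B' : C} (p : A ⟶ A') (q : B ⟶ B') [Epi p] [Epi q] : Epi (p ⊗ₘ q) := by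
  refine ⟨fun {Z} s t hst => ?_⟩
  obtain ⟨W₁, c₁, a, hc₁, ha⟩ := lift_local p (fst A' B')
  obtain ⟨W₂, c₂, b, hc₂, hb⟩ := lift_local q (c₁ ≫ snd A' B')
  haveI : Epi (c₂ ≫ c₁) := epi_comp _ _
  have e : lift (c₂ ≫ a) b ≫ (p ⊗ₘ q) = c₂ ≫ c₁ := by
    rw [lift_map, Category.assoc, ha, hb, ← comp_lift, ← comp_lift, lift_fst_snd,
      Category.comp_id]
  rw [← cancel_epi (c₂ ≫ c₁), ← e, Category.assoc, hst, Category.assoc]

lemma mono_action (hkG : IsKernelPair (coequalizer.π (fst G H) ((G ◁ (h ≫ k)) ≫ μ))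
      (fst G H) ((G ◁ (h ≫ k)) ≫ μ))
    [Mono k]
    (act : coequalizer (fst G H) ((G ◁ (h ≫ k)) ≫ μ) ⊗ coequalizer (fst K H) ((K ◁ h) ≫ μ) ⟶
      coequalizer (fst G H) ((G ◁ (h ≫ k)) ≫ μ))
    (hact : (coequalizer.π (fst G H) ((G ◁ (h ≫ k)) ≫ μ) ⊗ₘ
        coequalizer.π (fst K H) ((K ◁ h) ≫ μ)) ≫ act =
      (G ◁ k) ≫ μ ≫ coequalizer.π (fst G H) ((G ◁ (h ≫ k)) ≫ μ)) :
    Mono (lift act (fst _ _)) := by
  refine ⟨fun {W} x y hxy => ?_⟩
  have h1 : x ≫ act = y ≫ act := by simpa using hxy =≫ fst _ _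
  have h2 : x ≫ fst _ _ = y ≫ fst _ _ := by simpa using hxy =≫ snd _ _
  obtain ⟨W₁, c₁, g, hc₁, hg⟩ :=
    lift_local (coequalizer.π (fst G H) ((G ◁ (h ≫ k)) ≫ μ)) (x ≫ fst _ _)
  obtain ⟨W₂, c₂, a, hc₂, ha⟩ :=
    lift_local (coequalizer.π (fst K H) ((K ◁ h) ≫ μ)) (c₁ ≫ x ≫ snd _ _)
  obtain ⟨W₃, c₃, b, hc₃, hb⟩ :=
    lift_local (coequalizer.π (fst K H) ((K ◁ h) ≫ μ)) (c₂ ≫ c₁ ≫ y ≫ snd _ _)
  haveI : Epi (c₃ ≫ c₂ ≫ c₁) := by
    haveI : Epi (c₂ ≫ c₁) := epi_comp _ _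
    exact epi_comp _ _
  have ex : lift (c₃ ≫ c₂ ≫ g) (c₃ ≫ a) ≫ (coequalizer.π (fst G H) ((G ◁ (h ≫ k)) ≫ μ) ⊗ₘ
      coequalizer.π (fst K H) ((K ◁ h) ≫ μ)) = (c₃ ≫ c₂ ≫ c₁) ≫ x := by
    apply CartesianMonoidalCategory.hom_ext <;> simp [hg, ha]
  have ey : lift (c₃ ≫ c₂ ≫ g) b ≫ (coequalizer.π (fst G H) ((G ◁ (h ≫ k)) ≫ μ) ⊗ₘ
      coequalizer.π (fst K H) ((K ◁ h) ≫ μ)) = (c₃ ≫ c₂ ≫ c₁) ≫ y := by
    apply CartesianMonoidalCategory.hom_ext <;> simp [hg, hb, h2]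
  have e := congrArg (fun z => (c₃ ≫ c₂ ≫ c₁) ≫ z) h1
  rw [← Category.assoc (c₃ ≫ c₂ ≫ c₁) x, ← Category.assoc (c₃ ≫ c₂ ≫ c₁) y, ← ex, ← ey,
    Category.assoc, Category.assoc, hact,
    reassoc_of% (lift_act (H := K) k), reassoc_of% (lift_act (H := K) k)] at e
  set r := hkG.lift _ _ e with hr
  have r1 : r ≫ fst G H = c₃ ≫ c₂ ≫ g * (c₃ ≫ a) ≫ k := hkG.lift_fst _ _ e
  have r2 := hkG.lift_snd _ _ e
  rw [act_apply, ← hr, r1, mul_assoc] at r2
  have r3 : (c₃ ≫ a) * ((r ≫ snd G H) ≫ h) = b := by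
    rw [← cancel_mono k, MonObj.mul_comp, Category.assoc _ h k]
    exact mul_left_cancel r2
  have e' : (c₃ ≫ a) ≫ coequalizer.π (fst K H) ((K ◁ h) ≫ μ) =
      b ≫ coequalizer.π (fst K H) ((K ◁ h) ≫ μ) := by
    rw [← r3, ← lift_act, Category.assoc (lift _ _) ((K ◁ h) ≫ μ) _, ← coequalizer.condition (fst K H) ((K ◁ h) ≫ μ),
      lift_fst_assoc]
  rw [← cancel_epi (c₃ ≫ c₂ ≫ c₁), ← ex, ← ey, lift_map, lift_map, e']

/-- The third isomorphism theorem. -/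
lemma third_iso
    (act : coequalizer (fst G H) ((G ◁ (h ≫ k)) ≫ μ) ⊗ coequalizer (fst K H) ((K ◁ h) ≫ μ) ⟶
      coequalizer (fst G H) ((G ◁ (h ≫ k)) ≫ μ))
    (hact : (coequalizer.π (fst G H) ((G ◁ (h ≫ k)) ≫ μ) ⊗ₘ
        coequalizer.π (fst K H) ((K ◁ h) ≫ μ)) ≫ act =
      (G ◁ k) ≫ μ ≫ coequalizer.π (fst G H) ((G ◁ (h ≫ k)) ≫ μ))
    (qbar : coequalizer (fst G H) ((G ◁ (h ≫ k)) ≫ μ) ⟶
      coequalizer (fst G K) ((G ◁ k) ≫ μ))
    (hq : coequalizer.π (fst G H) ((G ◁ (h ≫ k)) ≫ μ) ≫ qbar =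
      coequalizer.π (fst G K) ((G ◁ k) ≫ μ)) :
    ∃ wq : fst _ _ ≫ qbar = act ≫ qbar, Nonempty (IsColimit (Cofork.ofπ qbar wq)) := by
  haveI := epi_tensor (coequalizer.π (fst G H) ((G ◁ (h ≫ k)) ≫ μ))
    (coequalizer.π (fst K H) ((K ◁ h) ≫ μ))
  haveI : Epi qbar := by
    haveI : Epi (coequalizer.π (fst G H) ((G ◁ (h ≫ k)) ≫ μ) ≫ qbar) := by
      rw [hq]; infer_instance
    exact epi_of_epi (coequalizer.π (fst G H) ((G ◁ (h ≫ k)) ≫ μ)) qbar
  have wq : fst _ _ ≫ qbar = act ≫ qbar := by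
    rw [← cancel_epi (coequalizer.π (fst G H) ((G ◁ (h ≫ k)) ≫ μ) ⊗ₘ
      coequalizer.π (fst K H) ((K ◁ h) ≫ μ)), ← Category.assoc, tensorHom_fst, Category.assoc,
      hq, coequalizer.condition, reassoc_of% hact, hq, Category.assoc]
  have cond : ∀ {Z : C} (s : coequalizer (fst G H) ((G ◁ (h ≫ k)) ≫ μ) ⟶ Z),
      fst _ (coequalizer (fst K H) ((K ◁ h) ≫ μ)) ≫ s = act ≫ s →
      fst G K ≫ coequalizer.π (fst G H) ((G ◁ (h ≫ k)) ≫ μ) ≫ s =
      ((G ◁ k) ≫ μ) ≫ coequalizer.π (fst G H) ((G ◁ (h ≫ k)) ≫ μ) ≫ s := by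
    intro Z s hs
    have := (coequalizer.π (fst G H) ((G ◁ (h ≫ k)) ≫ μ) ⊗ₘ
      coequalizer.π (fst K H) ((K ◁ h) ≫ μ)) ≫= hs
    rw [← Category.assoc, tensorHom_fst, Category.assoc, reassoc_of% hact] at this
    rw [this, Category.assoc]
  refine ⟨wq, ⟨Cofork.IsColimit.mk _ (fun s => coequalizer.desc _ (cond s.π s.condition))
    (fun s => ?_) (fun s m hm => ?_)⟩⟩
  · rw [Cofork.π_ofπ, ← cancel_epi (coequalizer.π (fst G H) ((G ◁ (h ≫ k)) ≫ μ)),
      reassoc_of% hq, coequalizer.π_desc]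
  · rw [← cancel_epi qbar, ← cancel_epi (coequalizer.π (fst G H) ((G ◁ (h ≫ k)) ≫ μ))]
    rw [reassoc_of% hq, reassoc_of% hq, coequalizer.π_desc]
    rw [Cofork.π_ofπ] at hm
    rw [← hm, reassoc_of% hq]

end thirdIso

section sheaf

universe w v₁ u₁

variable {D : Type u₁} [Category.{v₁} D] {J : GrothendieckTopology D} [HasSheafify J (Type w)]

lemma isKernelPair_coset {H G : Sheaf J (Type w)} [GrpObj H] [GrpObj G] (u : H ⟶ G) [Mono u]
    [IsMonHom u] :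
    IsKernelPair (coequalizer.π (fst G H) ((G ◁ u) ≫ μ)) (fst G H) ((G ◁ u) ≫ μ) := by
  haveI := isEquivalenceRelation_coset u
  obtain ⟨e⟩ := (EquivRelSh.universallyEffective_sheaf J (fst G H) ((G ◁ u) ≫ μ)
    ).nonempty_universallyEffectiveEquivalenceRelation
  exact isKernelPair_of_effective u e.toEffectiveEquivalenceRelation

end sheaf

end Groth.Agent.ShfQuot
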